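import Groth.Agent.CplExcLib.SubfieldFamily
import Groth.Agent.CohenLib.DerExt
import Mathlib.RingTheory.TensorProduct.Free

/-!
# Families of subfields with intersection the `p`-th powers separate differentials
-/

set_option autoImplicit false
set_option linter.style.haveILetI false
set_option maxHeartbeats 600000

universe u

open TensorProduct Groth.Agent EGA41 IsLocalRing

namespace SubfieldSepLib

/-- A finite family linearly independent over the intersection of a directed family of subfields is
linearly independent over one of them. -/
theorem exists_linearIndependent {K : Type u} [Field K] {ι : Type u} [Preorder ι]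
    [IsDirected ι (fun a b => a ≤ b)] [Nonempty ι] (F : ι → Subfield K) (hF : Antitone F) {J : Type*} (v : J → K)
    (s : Finset J)
    (h : ∀ g : J → K, (∀ j ∈ s, g j ∈ ⨅ α, F α) → ∑ j ∈ s, g j * v j = 0 → ∀ j ∈ s, g j = 0) (α₀ : ι) :
    ∃ α, α₀ ≤ α ∧ ∀ g : J → K, (∀ j ∈ s, g j ∈ F α) → ∑ j ∈ s, g j * v j = 0 → ∀ j ∈ s, g j = 0 := by
  classical
  induction s using Finset.induction with
  | empty => exact ⟨α₀, le_rfl, fun g _ _ j hj => absurd hj (Finset.notMem_empty j)⟩
  | insert a s ha ih =>
    obtain ⟨α₁, hα₁, h1⟩ := ih fun g hg hsum j hj => by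
      let g' : J → K := fun i => if i = a then 0 else g i
      have hja : ∀ i ∈ s, i ≠ a := fun i hi h => ha (h ▸ hi)
      have := h g' (fun i hi => by
        rcases Finset.mem_insert.1 hi with rfl | hi
        · simp [g', zero_mem]
        · simpa [g', hja i hi] using hg i hi) (by
          rw [Finset.sum_insert ha, ← hsum, show g' a = 0 by simp [g'], zero_mul, zero_add]
          exact Finset.sum_congr rfl fun i hi => by simp [g', hja i hi]) j (Finset.mem_insert_of_mem hj)
      simpa [g', hja j hj] using this
    by_contra hcon
    push Not at hcon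
    -- normalised relations
    have hrel : ∀ α, α₁ ≤ α → ∃ c : J → K, (∀ j ∈ s, c j ∈ F α) ∧ v a + ∑ j ∈ s, c j * v j = 0 := by
      intro α hα
      obtain ⟨g, hg, hsum, j₀, hj₀, hne⟩ := hcon α (hα₁.trans hα)
      rw [Finset.sum_insert ha] at hsum
      have hga : g a ≠ 0 := fun h0 => by
        rw [h0, zero_mul, zero_add] at hsum
        have h2 := h1 g (fun j hj => hF hα (hg j (Finset.mem_insert_of_mem hj))) hsum
        rcases Finset.mem_insert.1 hj₀ with rfl | hj
        · exact hne h0
        · exact hne (h2 j₀ hj)
      refine ⟨fun j => (g a)⁻¹ * g j, fun j hj => mul_mem (inv_mem (hg a (Finset.mem_insert_self a s)))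
        (hg j (Finset.mem_insert_of_mem hj)), ?_⟩
      simp only [mul_assoc, ← Finset.mul_sum]
      rw [eq_neg_of_add_eq_zero_right hsum, mul_neg, inv_mul_cancel_left₀ hga, add_neg_cancel]
    obtain ⟨c, hc, hc0⟩ := hrel α₁ le_rfl
    have hmem : ∀ j ∈ s, c j ∈ ⨅ α, F α := fun j hj => by
      rw [Subfield.mem_iInf]
      intro γ
      obtain ⟨β, hβ₁, hβγ⟩ := exists_ge_ge α₁ γ
      obtain ⟨d, hd, hd0⟩ := hrel β hβ₁
      have h3 := h1 (fun i => c i - d i) (fun i hi => sub_mem (hc i hi) (hF hβ₁ (hd i hi))) (by
        simp only [sub_mul, Finset.sum_sub_distrib]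
        rw [eq_neg_of_add_eq_zero_right hc0, eq_neg_of_add_eq_zero_right hd0, sub_self]) j hj
      rw [sub_eq_zero.1 h3]
      exact hF hβγ (hd j hj)
    have h4 := h (fun i => if i = a then 1 else c i) (fun i hi => by
      rcases Finset.mem_insert.1 hi with rfl | hi
      · simp [one_mem]
      · simpa [show i ≠ a from fun h => ha (h ▸ hi)] using hmem i hi) (by
        rw [Finset.sum_insert ha, if_pos rfl, one_mul, ← hc0]
        refine congrArg _ (Finset.sum_congr rfl fun i hi => ?_)
        rw [if_neg fun h => ha (by rwa [h] at hi)]) a (Finset.mem_insert_self a s)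
    simp at h4

variable {k : Type u} [Field k] (p : ℕ) [Fact p.Prime] [CharP k p] {ι : Type u} [Preorder ι]
  [IsDirected ι (fun a b => a ≤ b)] [Nonempty ι] (kα : ι → Subfield k) (hanti : Antitone kα)
  (hint : ⨅ α, (kα α ⊔ (frobenius k p).fieldRange) = (frobenius k p).fieldRange)

include hanti hint in
theorem exists_pIndependent {σ : Type u} [Finite σ] (x : σ → k) (hx : IsPIndependent p (⊥ : Subring k) x) (α₀ : ι) :
    ∃ α, α₀ ≤ α ∧ IsPIndependent p (kα α) x := by
  classical
  haveI : Fintype σ := Fintype.ofFinite σ
  haveI : Finite {e : σ →₀ ℕ // ∀ i, e i < p} :=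
    Finite.of_injective (fun e i => (⟨e.1 i, e.2 i⟩ : Fin p)) fun e e' h =>
      Subtype.ext (Finsupp.ext fun i => congrArg Fin.val (congrFun h i))
  haveI : Fintype {e : σ →₀ ℕ // ∀ i, e i < p} := Fintype.ofFinite _
  let F : ι → Subfield k := fun α => kα α ⊔ (frobenius k p).fieldRange
  have hF : Antitone F := fun a b hab => sup_le_sup_right (hanti hab) _
  obtain ⟨α, hα, h⟩ := exists_linearIndependent F hF
    (fun e : {e : σ →₀ ℕ // ∀ i, e i < p} => pMonomial x e.1) Finset.univ (fun g hg hsum j _ => by
      have hg' : ∀ j, g j ∈ pPowerSubalgebra p (⊥ : Subring k) k := fun j => by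
        obtain ⟨y, hy⟩ := RingHom.mem_fieldRange.1 (hint ▸ hg j (Finset.mem_univ j))
        exact Algebra.subset_adjoin ⟨y, by rw [← hy, frobenius_def]⟩
      exact congrArg Subtype.val ((Fintype.linearIndependent_iff.1 hx) (fun j => ⟨g j, hg' j⟩) hsum j)) α₀
  refine ⟨α, hα, Fintype.linearIndependent_iff.2 fun g hsum j => ?_⟩
  have hle : ∀ y ∈ pPowerSubalgebra p (kα α) k, y ∈ F α := fun y hy => by
    induction hy using Algebra.adjoin_induction with
    | mem z hz =>
      obtain ⟨b, rfl⟩ := hz
      exact SetLike.le_def.1 le_sup_right (RingHom.mem_fieldRange.2 ⟨b, frobenius_def p b⟩)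
    | algebraMap a => exact SetLike.le_def.1 le_sup_left a.2
    | add _ _ _ _ ha hb => exact add_mem ha hb
    | mul _ _ _ _ ha hb => exact mul_mem ha hb
  exact Subtype.ext (h (fun j => (g j).1) (fun j _ => hle _ (g j).2) hsum j (Finset.mem_univ j))

variable {A : Type u} [CommRing A] [IsLocalRing A] [Algebra k A]

include p hanti hint in
/-- Injectivity relative to the subfields for large indices implies absolute injectivity. -/
theorem injective_absolute (α₀ : ι) (h : ∀ α, α₀ ≤ α →
      Function.Injective ((KaehlerDifferential.mapBaseChange (kα α) k A).lTensor (ResidueField A))) :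
    Function.Injective ((KaehlerDifferential.mapBaseChange ℤ k A).lTensor (ResidueField A)) := by
  classical
  let R := (⊥ : Subring k)
  have hRk : Function.Injective ((KaehlerDifferential.mapBaseChange R k A).lTensor (ResidueField A)) := by
    rw [injective_iff_map_eq_zero]
    intro z hz
    obtain ⟨T, -, -, hT⟩ := PBasisLib.exists_pBasis_between (A := R) (K := k) p Set.univ ∅ (Set.empty_subset _)
      (PBasisLib.isPGenerating_univ (K := k) p) (PBasisLib.setIndep_empty (K := k) p)
    obtain ⟨b, hb⟩ := PBasisLib.exists_basis_D p hT
    let e := AlgebraTensorModule.cancelBaseChange k A (ResidueField A) (ResidueField A) (Ω[k⁄R])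
    let bK := Algebra.TensorProduct.basis (ResidueField A) b
    suffices hez : e z = 0 from e.injective (hez.trans (map_zero e).symm)
    refine bK.ext_elem fun i => ?_
    rw [map_zero, Finsupp.zero_apply]
    by_contra hne
    let s := (bK.repr (e z)).support
    have hxs : IsPIndependent p R (fun j : s => (j.1 : k)) := by
      rw [PBasisLib.isPIndependent_iff]
      have h1 := b.linearIndependent.comp (Subtype.val : s → T) Subtype.val_injective
      have h2 : (b ∘ (Subtype.val : s → T)) = fun j : s => KaehlerDifferential.D R k (j.1 : k) :=
        funext fun j => hb j.1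
      rw [h2] at h1
      exact h1
    obtain ⟨α, hα, hind⟩ := exists_pIndependent p kα hanti hint _ hxs α₀
    rw [PBasisLib.isPIndependent_iff] at hind
    obtain ⟨lam, hlam⟩ : ∃ lam : Ω[k⁄kα α] →ₗ[k] k,
        ∀ j : s, lam (KaehlerDifferential.D (kα α) k j.1.1) = if j.1 = i then 1 else 0 := by
      let bs := Module.Basis.span hind
      obtain ⟨lam, hlam⟩ := LinearMap.exists_extend (bs.constr k fun j : s => if j.1 = i then (1 : k) else 0)
      refine ⟨lam, fun j => ?_⟩
      rw [← bs.constr_basis k (fun j : s => if j.1 = i then (1 : k) else 0) j, ← hlam]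
      exact congrArg lam (congrArg Subtype.val (Module.Basis.span_apply hind j)).symm
    let D₀ : Derivation (kα α) k k := lam.compDer (KaehlerDifferential.D (kα α) k)
    let D : Derivation (kα α) k (ResidueField A) := (Algebra.linearMap k (ResidueField A)).compDer D₀
    obtain ⟨D', hD'⟩ := (CohenLib.injective_lTensor_iff (kα α) k A (ResidueField A)).1 (h α hα) D
    let DR : Derivation R k (ResidueField A) := Derivation.mk'
      { toFun := D
        map_add' := map_add D
        map_smul' := fun r c => by
          obtain ⟨n, hn⟩ := Subring.mem_bot.1 r.2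
          show D ((r : k) * c) = r • D c
          rw [← hn, ← zsmul_eq_mul, map_zsmul, Algebra.smul_def (A := ResidueField A),
            IsScalarTower.algebraMap_apply R k (ResidueField A), zsmul_eq_mul]
          congr 1
          show (n : ResidueField A) = algebraMap k (ResidueField A) r.1
          rw [← hn, map_intCast] } D.leibniz
    let DR' : Derivation R A (ResidueField A) := Derivation.mk'
      { toFun := D'
        map_add' := map_add D'
        map_smul' := fun r a => by
          obtain ⟨n, hn⟩ := Subring.mem_bot.1 r.2
          have hr : algebraMap R A r = (n : A) := by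
            rw [IsScalarTower.algebraMap_apply R k A]
            show algebraMap k A r.1 = _
            rw [← hn, map_intCast]
          rw [RingHom.id_apply, Algebra.smul_def, hr, ← zsmul_eq_mul, map_zsmul,
            ← algebraMap_smul A r, hr, Int.cast_smul_eq_zsmul] } D'.leibniz
    let Φ := DR'.liftKaehlerDifferential.liftBaseChange (ResidueField A)
    let G := DR.liftKaehlerDifferential.liftBaseChange (ResidueField A)
    have hcomm : ∀ w, Φ ((KaehlerDifferential.mapBaseChange R k A).lTensor (ResidueField A) w) = G (e w) := by
      intro w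
      induction w using TensorProduct.induction_on with
      | zero => simp
      | add x y hx hy => simp [map_add, hx, hy]
      | tmul l m =>
        induction m using TensorProduct.induction_on with
        | zero => simp
        | add x y hx hy => simp only [TensorProduct.tmul_add, map_add, hx, hy]
        | tmul a ω =>
          have hω : ω ∈ Submodule.span k (Set.range (KaehlerDifferential.D R k)) := by
            rw [KaehlerDifferential.span_range_derivation]; trivial
          induction hω using Submodule.span_induction generalizing a with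
          | zero => simp
          | add x y _ _ hx hy => simp only [TensorProduct.tmul_add, map_add, hx, hy]
          | smul c x _ hx =>
            rw [TensorProduct.tmul_smul, TensorProduct.smul_tmul']
            exact hx (c • a)
          | mem y hy =>
            obtain ⟨c, rfl⟩ := hy
            rw [LinearMap.lTensor_tmul, KaehlerDifferential.mapBaseChange_tmul, KaehlerDifferential.map_D,
              AlgebraTensorModule.cancelBaseChange_tmul, LinearMap.liftBaseChange_tmul, LinearMap.liftBaseChange_tmul,
              map_smul, Derivation.liftKaehlerDifferential_comp_D, Derivation.liftKaehlerDifferential_comp_D,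
              smul_assoc, smul_comm]
            show a • l • D' (algebraMap k A c) = a • l • D c
            rw [hD']
            rfl
    have h0 : G (e z) = 0 := by rw [← hcomm, hz, map_zero]
    rw [← bK.linearCombination_repr (e z), Finsupp.linearCombination_apply, map_finsuppSum,
      Finsupp.sum, Finset.sum_eq_single_of_mem i (Finsupp.mem_support_iff.2 hne)] at h0
    · rw [map_smul, Algebra.TensorProduct.basis_apply, LinearMap.liftBaseChange_tmul, one_smul, hb,
        Derivation.liftKaehlerDifferential_comp_D] at h0
      refine hne ?_
      have h1 : D i.1 = 1 := by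
        show algebraMap k (ResidueField A) (lam _) = 1
        exact (congrArg (algebraMap k (ResidueField A))
          ((hlam ⟨i, Finsupp.mem_support_iff.2 hne⟩).trans (if_pos rfl))).trans (map_one _)
      change bK.repr (e z) i • D i.1 = 0 at h0
      rwa [h1, smul_eq_mul, mul_one] at h0
    · intro j hj hji
      rw [map_smul, Algebra.TensorProduct.basis_apply, LinearMap.liftBaseChange_tmul, one_smul, hb,
        Derivation.liftKaehlerDifferential_comp_D]
      show bK.repr (e z) j • D j.1 = 0
      have h1 : D j.1 = 0 := by
        show algebraMap k (ResidueField A) (lam _) = 0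
        exact (congrArg (algebraMap k (ResidueField A)) ((hlam ⟨j, hj⟩).trans (if_neg hji))).trans (map_zero _)
      rw [h1, smul_zero]
  rw [CohenLib.injective_lTensor_iff] at hRk ⊢
  intro D
  obtain ⟨D', hD'⟩ := hRk (Derivation.mk'
    { toFun := D
      map_add' := map_add D
      map_smul' := fun r c => by
        obtain ⟨n, hn⟩ := Subring.mem_bot.1 r.2
        show D ((r : k) * c) = r • D c
        rw [← hn, ← zsmul_eq_mul, map_zsmul, Algebra.smul_def (A := ResidueField A),
          IsScalarTower.algebraMap_apply R k (ResidueField A), zsmul_eq_mul]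
        congr 1
        show (n : ResidueField A) = algebraMap k (ResidueField A) r.1
        rw [← hn, map_intCast] } D.leibniz)
  exact ⟨D'.restrictScalars ℤ, hD'⟩

omit [Fact p.Prime] in
/-- Absolute injectivity implies injectivity relative to any subfield. -/
theorem injective_relative (F : Subfield k)
    (h : Function.Injective ((KaehlerDifferential.mapBaseChange ℤ k A).lTensor (ResidueField A))) :
    Function.Injective ((KaehlerDifferential.mapBaseChange F k A).lTensor (ResidueField A)) := by
  rw [CohenLib.injective_lTensor_iff] at h ⊢
  intro D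
  obtain ⟨D', hD'⟩ := h (D.restrictScalars ℤ)
  refine ⟨Derivation.mk'
    { toFun := D'
      map_add' := map_add D'
      map_smul' := fun c a => ?_ } D'.leibniz, hD'⟩
  rw [RingHom.id_apply, Algebra.smul_def, D'.leibniz, IsScalarTower.algebraMap_apply F k A, hD']
  show algebraMap k A (algebraMap F k c) • D' a + a • D (algebraMap F k c) = _
  rw [D.map_algebraMap, smul_zero, add_zero, ← IsScalarTower.algebraMap_apply, IsScalarTower.algebraMap_smul]
  rfl

end SubfieldSepLib
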